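import Mathlib
import Groth.Prelude.Def_W4c61motalbdualityCompl

/-!
# Completions by open subgroups of finite index; open subgroups in tdlc groups
-/

set_option autoImplicit false

universe u v

open W4c61motalbduality Topology
open scoped Pointwise

namespace Groth.Agent.FIComplLib

variable {A : Type u} [AddCommGroup A] [TopologicalSpace A] [IsTopologicalAddGroup A]
variable {B : Type v} [AddCommGroup B] [TopologicalSpace B] [IsTopologicalAddGroup B]

theorem exists_openAddSubgroup_subset [T2Space B] [LocallyCompactSpace B]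
    [TotallyDisconnectedSpace B] {U : Set B} (hU : U ∈ 𝓝 (0 : B)) :
    ∃ V : OpenAddSubgroup B, (V : Set B) ⊆ U := by
  obtain ⟨K, hK, hKU, hKc⟩ := LocallyCompactSpace.local_compact_nhds 0 U hU
  obtain ⟨W, hW, hW0, hWK⟩ :=
    (loc_compact_Haus_tot_disc_of_zero_dim (H := B)).exists_subset_of_mem_open
      (mem_interior_iff_mem_nhds.2 hK) isOpen_interior
  have hWK' : W ⊆ K := hWK.trans interior_subset
  have hWc : IsCompact W := hKc.of_isClosed_subset hW.1 hWK'
  obtain ⟨T, hT, hWT⟩ := compact_open_separated_add_right hWc hW.2 subset_rfl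
  let S : AddSubgroup B :=
    { carrier := {x | ∀ w ∈ W, w + x ∈ W ∧ w - x ∈ W}
      zero_mem' := fun w hw => by simp [hw]
      add_mem' := fun {a b} ha hb w hw =>
        ⟨by rw [← add_assoc]; exact (hb _ (ha w hw).1).1,
          by rw [sub_add_eq_sub_sub]; exact (hb _ (ha w hw).2).2⟩
      neg_mem' := fun {a} ha w hw =>
        ⟨by rw [← sub_eq_add_neg]; exact (ha w hw).2, by rw [sub_neg_eq_add]; exact (ha w hw).1⟩ }
  have hS : (S : Set B) ∈ 𝓝 (0 : B) := by
    filter_upwards [hT, neg_mem_nhds_zero B hT] with x hx hx' w hw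
    refine ⟨hWT (Set.add_mem_add hw hx), ?_⟩
    rw [sub_eq_add_neg]
    exact hWT (Set.add_mem_add hw (Set.mem_neg.1 hx'))
  refine ⟨⟨S, S.isOpen_of_mem_nhds hS⟩, fun x hx => hKU (hWK' ?_)⟩
  simpa using (hx 0 hW0).1

/-- An open subgroup of the source contains the preimage of an open subgroup of the target. -/
theorem exists_comap_le [T2Space B] [LocallyCompactSpace B] [TotallyDisconnectedSpace B]
    (i : A →+ B) (hind : IsInducing i) (U : AddSubgroup A) (hU : IsOpen (U : Set A)) :
    ∃ V : OpenAddSubgroup B, (V : AddSubgroup B).comap i ≤ U := by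
  obtain ⟨O, hO, hOU⟩ := hind.isOpen_iff.1 hU
  have h0 : O ∈ 𝓝 (0 : B) := hO.mem_nhds (by
    have : (0 : A) ∈ (U : Set A) := U.zero_mem
    rw [← hOU] at this
    simpa using this)
  obtain ⟨V, hV⟩ := exists_openAddSubgroup_subset h0
  refine ⟨V, fun a ha => ?_⟩
  show a ∈ (U : Set A)
  rw [← hOU]
  exact hV ha

/-- A point of the completion is in the image as soon as it is at every finite level. -/
theorem mem_range_map (f : A →+ B) (hf : Continuous f) (x : FICompl B)
    (h : ∀ V : OpenFI B, ∃ a : A, (QuotientAddGroup.mk (f a) : B ⧸ V.toAddSubgroup) = x.1 V) :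
    x ∈ (FICompl.map f hf).range := by
  letI : ∀ U : OpenFI A, TopologicalSpace (A ⧸ U.toAddSubgroup) := fun U => ⊥
  haveI : ∀ U : OpenFI A, DiscreteTopology (A ⧸ U.toAddSubgroup) := fun U => ⟨rfl⟩
  haveI : ∀ U : OpenFI A, Finite (A ⧸ U.toAddSubgroup) := fun U =>
    haveI := U.finiteIndex'; inferInstance
  let X := (U : OpenFI A) → A ⧸ U.toAddSubgroup
  let e : ∀ (V : OpenFI B), X → B ⧸ V.toAddSubgroup := fun V y =>
    QuotientAddGroup.map (V.comap f hf).toAddSubgroup V.toAddSubgroup f (V.comap_le f)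
      (y (V.comap f hf))
  let K : OpenFI B → Set X := fun V =>
    (FICompl A : Set X) ∩ ⋂ (W : OpenFI B) (_ : V.toAddSubgroup ≤ W.toAddSubgroup),
      {y | e W y = x.1 W}
  have hclosed : IsClosed ((FICompl A : Set X)) := by
    have : (FICompl A : Set X) = ⋂ (U : OpenFI A) (V : OpenFI A) (h : U.toAddSubgroup ≤ V.toAddSubgroup),
        {y | QuotientAddGroup.map U.toAddSubgroup V.toAddSubgroup (AddMonoidHom.id A) h (y U) = y V} := by
      ext y
      simp only [Set.mem_iInter]
      rfl
    rw [this]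
    exact isClosed_iInter fun U => isClosed_iInter fun V => isClosed_iInter fun h =>
      isClosed_eq (continuous_of_discreteTopology.comp (continuous_apply U)) (continuous_apply V)
  have hKc : ∀ V, IsClosed (K V) := fun V => hclosed.inter <| isClosed_iInter fun W =>
    isClosed_iInter fun _ => by
      have hc : Continuous fun y : X => y (W.comap f hf) := continuous_apply (W.comap f hf)
      exact (isClosed_discrete
        {q : A ⧸ (W.comap f hf).toAddSubgroup | QuotientAddGroup.map (W.comap f hf).toAddSubgroup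
          W.toAddSubgroup f (W.comap_le f) q = x.1 W}).preimage hc
  have hKn : ∀ V, (K V).Nonempty := fun V => by
    obtain ⟨a, ha⟩ := h V
    refine ⟨(toFICompl A a).1, (toFICompl A a).2, ?_⟩
    simp only [Set.mem_iInter]
    intro W hW
    show (QuotientAddGroup.mk (f a) : B ⧸ W.toAddSubgroup) = x.1 W
    rw [← x.2 V W hW, ← ha]
    rfl
  haveI : Nonempty (OpenFI B) := ⟨⟨⊤, isOpen_univ, inferInstance⟩⟩
  have hdir : Directed (· ⊇ ·) K := fun V V' => by
    haveI := V.finiteIndex'
    haveI := V'.finiteIndex'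
    refine ⟨⟨V.toAddSubgroup ⊓ V'.toAddSubgroup, V.isOpen'.inter V'.isOpen', inferInstance⟩, ?_, ?_⟩
    · refine Set.inter_subset_inter_right _ fun y hy => ?_
      simp only [Set.mem_iInter] at hy ⊢
      exact fun W hW => hy W (inf_le_left.trans hW)
    · refine Set.inter_subset_inter_right _ fun y hy => ?_
      simp only [Set.mem_iInter] at hy ⊢
      exact fun W hW => hy W (inf_le_right.trans hW)
  obtain ⟨y, hy⟩ := IsCompact.nonempty_iInter_of_directed_nonempty_isCompact_isClosed K hdir hKn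
    (fun V => (hKc V).isCompact) hKc
  rw [Set.mem_iInter] at hy
  refine ⟨⟨y, (hy (Classical.arbitrary _)).1⟩, Subtype.ext (funext fun V => ?_)⟩
  have := (hy V).2
  simp only [Set.mem_iInter] at this
  exact this V le_rfl

omit [TopologicalSpace A] [IsTopologicalAddGroup A] in
theorem exists_torsion_bound (M : Type v) [AddCommGroup M] [Module.Finite ℤ M] :
    ∃ m : ℕ, m ≠ 0 ∧ ∀ t : M, IsOfFinAddOrder t → m • t = 0 := by
  haveI := Module.finite_of_fg_torsion (Submodule.torsion ℤ M) Submodule.torsion_isTorsion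
  refine ⟨Nat.card (Submodule.torsion ℤ M), Nat.card_pos.ne', fun t ht => ?_⟩
  obtain ⟨k, hk, hkt⟩ := isOfFinAddOrder_iff_nsmul_eq_zero.1 ht
  have hmem : t ∈ Submodule.torsion ℤ M :=
    ⟨⟨(k : ℤ), mem_nonZeroDivisors_of_ne_zero (by exact_mod_cast hk.ne')⟩, by
      show (k : ℤ) • t = 0
      rw [natCast_zsmul, hkt]⟩
  have h := card_nsmul_eq_zero' (x := (⟨t, hmem⟩ : Submodule.torsion ℤ M))
  simpa using congrArg Subtype.val h

theorem finiteIndex_range_nsmul (M : Type v) [AddCommGroup M] [Module.Finite ℤ M] {m : ℕ}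
    (hm : m ≠ 0) : (nsmulAddMonoidHom (α := M) m).range.FiniteIndex := by
  let N := (nsmulAddMonoidHom (α := M) m).range.toIntSubmodule
  have : Module.IsTorsion ℤ (M ⧸ N) := by
    intro q
    obtain ⟨b, rfl⟩ := Submodule.mkQ_surjective _ q
    refine ⟨⟨(m : ℤ), mem_nonZeroDivisors_of_ne_zero (by exact_mod_cast hm)⟩, ?_⟩
    show (m : ℤ) • N.mkQ b = 0
    rw [← map_zsmul, Submodule.mkQ_apply, Submodule.Quotient.mk_eq_zero]
    exact ⟨b, by simp⟩
  haveI : Finite (M ⧸ N) := Module.finite_of_fg_torsion _ this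
  haveI : Finite (M ⧸ (nsmulAddMonoidHom (α := M) m).range) := ‹Finite (M ⧸ N)›
  exact AddSubgroup.finiteIndex_of_finite_quotient

end Groth.Agent.FIComplLib
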